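import Cfsg.Agent.SylowTwoGL.Facts
import Cfsg.Prelude.Def_Transfer
import Mathlib.Data.Fintype.Units

/-!
# The normal 2-rank of a Sylow 2-subgroup of `GL(n, q)`
-/

set_option autoImplicit false
set_option linter.style.haveILetI false
set_option linter.unusedSectionVars false

namespace CfsgLib.SylowTwoGL

open Matrix CfsgLib.SL2C

variable {F : Type*} [Field F] [Fintype F] {k r : ℕ}

theorem two_roots (hodd : Odd (Fintype.card F)) :
    Nat.card (Subgroup.zpowers (-1 : Fˣ)) = 2 ∧ (∀ z ∈ Subgroup.zpowers (-1 : Fˣ), z * z = 1) ∧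
      ∀ z : Fˣ, z * z = 1 → z = 1 ∨ z = -1 := by
  haveI : Fact (Nat.Prime 2) := ⟨Nat.prime_two⟩
  have hne : (-1 : Fˣ) ≠ 1 := fun h => by
    have h1 : (-1 : F) = 1 := by simpa using congrArg Units.val h
    have h2 : ringChar F = 2 := neg_one_eq_one_iff.1 h1
    have := FiniteField.even_card_of_char_two h2
    obtain ⟨s, hs⟩ := hodd
    omega
  refine ⟨by rw [Nat.card_zpowers, orderOf_eq_prime (p := 2) (by simp) hne], ?_, fun z hz => ?_⟩
  · rintro _ ⟨i, rfl⟩
    show ((-1 : Fˣ) ^ i) * (-1) ^ i = 1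
    rw [← mul_zpow, neg_mul_neg, one_mul, _root_.one_zpow]
  · have h : (z : F) * z = 1 := by simpa using congrArg Units.val hz
    rcases mul_self_eq_one_iff.1 h with h' | h'
    · exact Or.inl (Units.ext h')
    · exact Or.inr (Units.ext h')

theorem rank_upper (hodd : Odd (Fintype.card F)) (W : Sylow 2 (GL (Fin 2) F)) (Z : Sylow 2 Fˣ)
    (good : Set (GL (Fin 2) F))
    (hgood : ∀ g ∈ (W : Subgroup (GL (Fin 2) F)), g * g = 1 →
      (∀ y ∈ (W : Subgroup (GL (Fin 2) F)), g * (y * g * y⁻¹) = y * g * y⁻¹ * g) → g ∈ good)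
    (c : ℕ) (hc : Nat.card good ≤ c)
    (E : Subgroup (model (W : Subgroup (GL (Fin 2) F)) (Z : Subgroup Fˣ) k r)) (hN : E.Normal)
    (hE : Cfsg.IsElementaryAbelian 2 E) : Nat.card E ≤ c ^ k * 2 ^ r := by
  classical
  obtain ⟨x, hxW, hxx⟩ := (W_inf_SL hodd W).2
  have hsingle : ∀ t : Fin k, ∀ y ∈ (W : Subgroup (GL (Fin 2) F)), ∀ s,
      (Pi.mulSingle t y : Fin k → GL (Fin 2) F) s ∈ (W : Subgroup (GL (Fin 2) F)) := by
    intro t y hy s
    rcases eq_or_ne s t with rfl | hst
    · rw [Pi.mulSingle_eq_same]; exact hy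
    · rw [Pi.mulSingle_eq_of_ne hst]; exact one_mem _
  have hform : ∀ w ∈ E, ∃ f : Fin k → GL (Fin 2) F, ∃ d : Fin r → Fˣ,
      (∀ t, f t ∈ good) ∧ (∀ j, d j * d j = 1) ∧ (w : GL (Idx k r) F) = baseHom (f, d) := by
    intro w hw
    obtain ⟨f, hf, d, hd, σ, hσ, he⟩ := mem_model.1 w.2
    have hσ1 : σ = 1 := by
      refine Equiv.ext fun t => ?_
      by_contra hne
      rw [Equiv.Perm.one_apply] at hne
      let b : model (W : Subgroup (GL (Fin 2) F)) (Z : Subgroup Fˣ) k r :=
        ⟨baseHom (Pi.mulSingle t x, (1 : Fin r → Fˣ)), base_mem_model (hsingle t x hxW) fun _ => one_mem _⟩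
      have hcE : w * b * w⁻¹ * b⁻¹ ∈ E := by
        rw [show w * b * w⁻¹ * b⁻¹ = w * (b * w⁻¹ * b⁻¹) by group]
        exact E.mul_mem hw (hN.conj_mem _ (E.inv_mem hw) b)
      have h2 := congrArg Subtype.val (hE.2 _ hcE)
      rw [pow_two, Subgroup.coe_mul, Subgroup.coe_mul, Subgroup.coe_mul, Subgroup.coe_mul,
        Subgroup.coe_inv, Subgroup.coe_inv, Subgroup.coe_one, ← he] at h2
      rw [show baseHom (f, d) * permHom σ * baseHom (Pi.mulSingle t x, 1) * (baseHom (f, d) * permHom σ)⁻¹ *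
        (baseHom (Pi.mulSingle t x, 1))⁻¹ = baseHom (f, d) * (permHom σ * baseHom (Pi.mulSingle t x, 1) *
        (permHom σ)⁻¹) * (baseHom (f, d))⁻¹ * (baseHom (Pi.mulSingle t x, 1))⁻¹ by group, conj_base,
        ← map_inv, ← map_inv, ← map_mul, ← map_mul, ← map_mul, ← map_mul] at h2
      have h3 := congrFun (congrArg Prod.fst (baseHom_injective (h2.trans (map_one baseHom).symm))) t
      have hst : σ.symm t ≠ t := fun h => hne (by
        have := congrArg σ h
        rw [Equiv.apply_symm_apply] at this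
        exact this.symm)
      simp only [Prod.fst_mul, Prod.fst_inv, Prod.fst_one, Pi.mul_apply, Pi.inv_apply, Pi.one_apply,
        Pi.mulSingle_eq_same, Pi.mulSingle_eq_of_ne hst, mul_one, mul_inv_cancel, one_mul] at h3
      exact hxx (by rw [← inv_eq_one, _root_.mul_inv_rev, h3])
    rw [hσ1, map_one, mul_one] at he
    have h2 := congrArg Subtype.val (hE.2 w hw)
    rw [pow_two, Subgroup.coe_mul, Subgroup.coe_one, ← he, ← map_mul] at h2
    have h3 := baseHom_injective (h2.trans (map_one baseHom).symm)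
    refine ⟨f, d, fun t => hgood _ (hf t) (congrFun (congrArg Prod.fst h3) t) fun y hy => ?_,
      fun j => congrFun (congrArg Prod.snd h3) j, he.symm⟩
    let b : model (W : Subgroup (GL (Fin 2) F)) (Z : Subgroup Fˣ) k r :=
      ⟨baseHom (Pi.mulSingle t y, (1 : Fin r → Fˣ)), base_mem_model (hsingle t y hy) fun _ => one_mem _⟩
    have hcomm : w * (b * w * b⁻¹) = b * w * b⁻¹ * w := by
      have := hE.1.is_comm.comm ⟨w, hw⟩ ⟨_, hN.conj_mem _ hw b⟩
      exact congrArg Subtype.val this
    have h4 := congrArg Subtype.val hcomm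
    simp only [Subgroup.coe_mul, Subgroup.coe_inv, ← he, b, ← map_inv, ← map_mul] at h4
    have h5 := congrFun (congrArg Prod.fst (baseHom_injective h4)) t
    simpa using h5
  choose f d hf hd hw using hform
  obtain ⟨-, -, hroots⟩ := two_roots hodd
  have h2card : Nat.card {z : Fˣ // z * z = 1} ≤ 2 := by
    refine (Nat.card_le_card_of_injective (fun z : {z : Fˣ // z * z = 1} => decide (z.1 = 1)) ?_).trans
      (by simp)
    intro u v h
    simp only [decide_eq_decide] at h
    rcases hroots u.1 u.2 with h1 | h1 <;> rcases hroots v.1 v.2 with h2 | h2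
    · exact Subtype.ext (h1.trans h2.symm)
    · exact Subtype.ext (h1.trans (h.1 h1).symm)
    · exact Subtype.ext ((h.2 h2).trans h2.symm)
    · exact Subtype.ext (h1.trans h2.symm)
  refine (Nat.card_le_card_of_injective (β := (Fin k → good) × (Fin r → {z : Fˣ // z * z = 1}))
    (fun w : E => (fun t => (⟨f w.1 w.2 t, hf w.1 w.2 t⟩ : good), fun j => ⟨d w.1 w.2 j, hd w.1 w.2 j⟩)) ?_).trans ?_
  · intro u v h
    obtain ⟨ha, hb⟩ := Prod.ext_iff.1 h
    refine Subtype.ext (Subtype.ext ?_)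
    rw [hw u.1 u.2, hw v.1 v.2]
    congr 1
    exact Prod.ext (funext fun t => congrArg Subtype.val (congrFun ha t))
      (funext fun j => congrArg Subtype.val (congrFun hb j))
  · rw [Nat.card_prod, Nat.card_fun, Nat.card_fun, Nat.card_fin, Nat.card_fin]
    exact Nat.mul_le_mul (Nat.pow_le_pow_left hc k) (Nat.pow_le_pow_left h2card r)

theorem rank_lower (hodd : Odd (Fintype.card F)) (W : Sylow 2 (GL (Fin 2) F)) (Z : Sylow 2 Fˣ)
    (A : Subgroup (GL (Fin 2) F)) (hAW : A ≤ (W : Subgroup (GL (Fin 2) F)))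
    (hA : Cfsg.IsElementaryAbelian 2 A)
    (hconj : ∀ y ∈ (W : Subgroup (GL (Fin 2) F)), ∀ a ∈ A, y * a * y⁻¹ ∈ A) :
    ∃ E : Subgroup (model (W : Subgroup (GL (Fin 2) F)) (Z : Subgroup Fˣ) k r), E.Normal ∧
      Cfsg.IsElementaryAbelian 2 E ∧ (Nat.card A) ^ k * 2 ^ r ≤ Nat.card E := by
  classical
  obtain ⟨hμc, hμ2, -⟩ := two_roots hodd
  let μ : Subgroup Fˣ := Subgroup.zpowers (-1 : Fˣ)
  have hμZ : μ ≤ (Z : Subgroup Fˣ) := Subgroup.zpowers_le.2 (mem_sylow_units Z (j := 1) (by simp))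
  let ε : ((Fin k → A) × (Fin r → μ)) →* model (W : Subgroup (GL (Fin 2) F)) (Z : Subgroup Fˣ) k r :=
    { toFun := fun a => ⟨baseHom ((fun t => (a.1 t : GL (Fin 2) F)), fun j => (a.2 j : Fˣ)),
        base_mem_model (fun t => hAW (a.1 t).2) fun j => hμZ (a.2 j).2⟩
      map_one' := Subtype.ext (map_one baseHom)
      map_mul' := fun a b => Subtype.ext (map_mul baseHom
        ((fun t => (a.1 t : GL (Fin 2) F)), fun j => (a.2 j : Fˣ))
        ((fun t => (b.1 t : GL (Fin 2) F)), fun j => (b.2 j : Fˣ))) }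
  have hεinj : Function.Injective ε := fun a b h => by
    have h' := baseHom_injective (congrArg Subtype.val h :)
    exact Prod.ext (funext fun t => Subtype.ext (congrFun (congrArg Prod.fst h') t))
      (funext fun j => Subtype.ext (congrFun (congrArg Prod.snd h') j))
  refine ⟨ε.range, ⟨?_⟩, ⟨⟨⟨?_⟩⟩, ?_⟩, le_of_eq ?_⟩
  · rintro _ ⟨a, rfl⟩ y
    obtain ⟨f, hf, d, hd, σ, hσ, he⟩ := mem_model.1 y.2
    refine ⟨(fun t => ⟨f t * (a.1 (σ.symm t) : GL (Fin 2) F) * (f t)⁻¹, hconj _ (hf t) _ (a.1 _).2⟩, a.2),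
      Subtype.ext ?_⟩
    rw [Subgroup.coe_mul, Subgroup.coe_mul, Subgroup.coe_inv, ← he]
    show baseHom _ = baseHom (f, d) * permHom σ * baseHom _ * (baseHom (f, d) * permHom σ)⁻¹
    rw [show baseHom (f, d) * permHom σ *
      baseHom ((fun t => (a.1 t : GL (Fin 2) F)), fun j => (a.2 j : Fˣ)) * (baseHom (f, d) * permHom σ)⁻¹ =
      baseHom (f, d) * (permHom σ * baseHom ((fun t => (a.1 t : GL (Fin 2) F)), fun j => (a.2 j : Fˣ)) *
        (permHom σ)⁻¹) * (baseHom (f, d))⁻¹ by group, conj_base, ← map_inv, ← map_mul, ← map_mul]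
    congr 1
    refine Prod.ext rfl (funext fun j => ?_)
    show ((a.2 j : μ) : Fˣ) = d j * (a.2 j : Fˣ) * (d j)⁻¹
    rw [mul_comm (d j), mul_inv_cancel_right]
  · rintro ⟨_, a, rfl⟩ ⟨_, b, rfl⟩
    refine Subtype.ext (show ε a * ε b = ε b * ε a from ?_)
    rw [← map_mul, ← map_mul]
    congr 1
    exact Prod.ext (funext fun t => hA.1.is_comm.comm _ _)
      (funext fun j => Subtype.ext (mul_comm ((a.2 j : μ) : Fˣ) _))
  · rintro _ ⟨a, rfl⟩
    rw [← map_pow, show a ^ 2 = 1 from Prod.ext (funext fun t => Subtype.ext (hA.2 _ (a.1 t).2))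
      (funext fun j => Subtype.ext (by
        show ((a.2 j : μ) : Fˣ) ^ 2 = 1
        rw [pow_two]; exact hμ2 _ (a.2 j).2)), map_one]
  · rw [← Nat.card_congr (MonoidHom.ofInjective (f := ε) hεinj).toEquiv, Nat.card_prod, Nat.card_fun,
      Nat.card_fun, Nat.card_fin, Nat.card_fin, hμc]

theorem W_eq_mono (hodd : Odd (Fintype.card F)) (hq : Fintype.card F % 4 = 1) (W : Sylow 2 (GL (Fin 2) F))
    (Z : Sylow 2 Fˣ) (hW : mono (Z : Subgroup Fˣ) ≤ (W : Subgroup (GL (Fin 2) F))) :
    mono (Z : Subgroup Fˣ) = (W : Subgroup (GL (Fin 2) F)) := by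
  haveI : Fact (Nat.Prime 2) := ⟨Nat.prime_two⟩
  refine Subgroup.eq_of_le_of_card_ge hW ?_
  have hq3 : 3 ≤ Fintype.card F := by
    have : 1 < Fintype.card F := Fintype.one_lt_card
    omega
  have hdis : Subgroup.zpowers (CfsgLib.Linear.TwoSylow.swapGL F) ⊓
      (((Z : Subgroup Fˣ).prod (Z : Subgroup Fˣ)).map CfsgLib.Linear.TwoSylow.diagHom) = ⊥ := by
    rw [eq_bot_iff]
    rintro _ ⟨hi, p, -, rfl⟩
    obtain ⟨i, hi⟩ := Subgroup.mem_zpowers_iff.1 hi
    rw [← zpow_mod_orderOf, CfsgLib.Linear.TwoSylow.orderOf_swapGL] at hi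
    rcases (show i % (2 : ℕ) = 0 ∨ i % (2 : ℕ) = 1 by omega) with h | h <;> rw [h] at hi
    · rw [← hi, zpow_zero]
      exact one_mem _
    · exfalso
      rw [zpow_one] at hi
      have h1 : (CfsgLib.Linear.TwoSylow.swapGL F).val =
          (CfsgLib.Linear.TwoSylow.diagHom p).val := by rw [hi]
      have h2 := congrFun (congrFun h1 0) 1
      simp [CfsgLib.Linear.TwoSylow.swapGL, CfsgLib.Linear.TwoSylow.diagHom] at h2
  rw [mono, CfsgLib.Solvable.card_sup_of_disjoint (mono_le_normalizer _) hdis, Nat.card_zpowers,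
    CfsgLib.Linear.TwoSylow.orderOf_swapGL,
    Subgroup.card_map_of_injective CfsgLib.Linear.TwoSylow.diagHom_injective,
    Nat.card_congr (Subgroup.prodEquiv _ _).toEquiv, Nat.card_prod, card_Z, W.card_eq_multiplicity,
    factorization_GL hodd 2]
  have hv := (val_prod_pow hodd hq3 1).1
  rw [Nat.factorial_one, padicValNat.one, add_zero, one_mul, show 2 * 1 = 2 from rfl] at hv
  rw [hv]
  have ht : CfsgLib.OrthSylow.torusExp (Fintype.card F) = padicValNat 2 (Fintype.card F - 1) := by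
    rw [CfsgLib.OrthSylow.torusExp, if_pos hq]
  rw [ht, ← pow_add, ← pow_succ']
  exact le_of_eq (by ring_nf)

theorem rank_main (hodd : Odd (Fintype.card F)) {n : ℕ} (hn : n = 2 * k + r) (hr : r ≤ 1)
    (S : Sylow 2 (GL (Fin n) F)) :
    (Fintype.card F % 4 = 1 → ((∃ E : Subgroup (S : Subgroup (GL (Fin n) F)),
        E.Normal ∧ Cfsg.IsElementaryAbelian 2 E ∧ 2 ^ n ≤ Nat.card E) ∧
      ∀ E : Subgroup (S : Subgroup (GL (Fin n) F)),
        E.Normal → Cfsg.IsElementaryAbelian 2 E → Nat.card E ≤ 2 ^ n)) ∧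
    (Fintype.card F % 4 = 3 → ((∃ E : Subgroup (S : Subgroup (GL (Fin n) F)),
        E.Normal ∧ Cfsg.IsElementaryAbelian 2 E ∧ 2 ^ (k + r) ≤ Nat.card E) ∧
      ∀ E : Subgroup (S : Subgroup (GL (Fin n) F)),
        E.Normal → Cfsg.IsElementaryAbelian 2 E → Nat.card E ≤ 2 ^ (k + r))) := by
  classical
  haveI : Fact (Nat.Prime 2) := ⟨Nat.prime_two⟩
  let Z : Sylow 2 Fˣ := default
  obtain ⟨W, hW⟩ := exists_W Z
  obtain ⟨e⟩ := exists_iso hodd W Z hn hr S
  obtain ⟨hμc, hμ2, hroots⟩ := two_roots hodd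
  have hμZ : ∀ z : Fˣ, z * z = 1 → z ∈ (Z : Subgroup Fˣ) := fun z hz =>
    mem_sylow_units Z (j := 1) (by rw [pow_one, pow_two, hz])
  have htr : ∀ {A B : Type _} [Group A] [Group B] (φ : A ≃* B) (E : Subgroup A), E.Normal →
      Cfsg.IsElementaryAbelian 2 E → (E.map φ.toMonoidHom).Normal ∧
        Cfsg.IsElementaryAbelian 2 (E.map φ.toMonoidHom) ∧
        Nat.card (E.map φ.toMonoidHom) = Nat.card E := by
    intro A B _ _ φ E hN hE
    haveI := hE.1
    refine ⟨hN.map _ φ.surjective, ⟨inferInstance, ?_⟩, Subgroup.card_map_of_injective φ.injective⟩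
    rintro _ ⟨y, hy, rfl⟩
    rw [← map_pow, hE.2 y hy, map_one]
  have hpack : ∀ (good : Set (GL (Fin 2) F)) (A : Subgroup (GL (Fin 2) F)) (c N : ℕ), N = c ^ k * 2 ^ r →
      (∀ g ∈ (W : Subgroup (GL (Fin 2) F)), g * g = 1 →
        (∀ y ∈ (W : Subgroup (GL (Fin 2) F)), g * (y * g * y⁻¹) = y * g * y⁻¹ * g) → g ∈ good) →
      Nat.card good ≤ c → A ≤ (W : Subgroup (GL (Fin 2) F)) → Cfsg.IsElementaryAbelian 2 A →
      (∀ y ∈ (W : Subgroup (GL (Fin 2) F)), ∀ a ∈ A, y * a * y⁻¹ ∈ A) → Nat.card A = c →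
      ((∃ E : Subgroup (S : Subgroup (GL (Fin n) F)),
          E.Normal ∧ Cfsg.IsElementaryAbelian 2 E ∧ N ≤ Nat.card E) ∧
        ∀ E : Subgroup (S : Subgroup (GL (Fin n) F)),
          E.Normal → Cfsg.IsElementaryAbelian 2 E → Nat.card E ≤ N) := by
    intro good A c N hNc hgood hgc hAW hA hconj hAc
    subst hNc
    refine ⟨?_, fun E hN hE => ?_⟩
    · obtain ⟨E, h1, h2, h3⟩ := rank_lower (k := k) (r := r) hodd W Z A hAW hA hconj
      obtain ⟨h1', h2', h3'⟩ := htr e.symm E h1 h2
      exact ⟨_, h1', h2', by rw [h3']; exact hAc ▸ h3⟩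
    · obtain ⟨h1', h2', h3'⟩ := htr e E hN hE
      rw [← h3']
      exact rank_upper hodd W Z good hgood c hgc _ h1' h2'
  refine ⟨fun hq => ?_, fun hq => ?_⟩
  · have hM := W_eq_mono hodd hq W Z hW
    let μ : Subgroup Fˣ := Subgroup.zpowers (-1 : Fˣ)
    let A : Subgroup (GL (Fin 2) F) := (μ.prod μ).map CfsgLib.Linear.TwoSylow.diagHom
    have hμ' : ∀ z : Fˣ, z * z = 1 → z ∈ μ := fun z hz => by
      rcases hroots z hz with h | h <;> rw [h]
      · exact one_mem _
      · exact Subgroup.mem_zpowers _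
    have hAc : Nat.card A = 4 := by
      rw [Subgroup.card_map_of_injective CfsgLib.Linear.TwoSylow.diagHom_injective,
        Nat.card_congr (Subgroup.prodEquiv _ _).toEquiv, Nat.card_prod, hμc]
    refine hpack (A : Set (GL (Fin 2) F)) A 4 _ (by rw [hn, pow_add, pow_mul]; norm_num) ?_ (le_of_eq hAc) ?_ ?_ ?_ hAc
    · intro g hg hgg hcomm
      rw [← hM, mono, CfsgLib.Solvable.mem_sup_of_le_normalizer (mono_le_normalizer _)] at hg
      obtain ⟨s, hs, _, ⟨⟨a, b⟩, hab, rfl⟩, rfl⟩ := hg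
      obtain ⟨i, hi⟩ := Subgroup.mem_zpowers_iff.1 hs
      rw [← zpow_mod_orderOf, CfsgLib.Linear.TwoSylow.orderOf_swapGL] at hi
      rcases (show i % (2 : ℕ) = 0 ∨ i % (2 : ℕ) = 1 by omega) with h | h <;> rw [h] at hi
      · rw [zpow_zero] at hi
        subst hi
        rw [one_mul, ← map_mul, ← map_one CfsgLib.Linear.TwoSylow.diagHom] at hgg
        have h1 := CfsgLib.Linear.TwoSylow.diagHom_injective hgg
        rw [one_mul]
        exact ⟨(a, b), ⟨hμ' a (congrArg Prod.fst h1), hμ' b (congrArg Prod.snd h1)⟩, rfl⟩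
      · exfalso
        rw [zpow_one] at hi
        subst hi
        obtain ⟨u, hu⟩ : ∃ u : Fˣ, orderOf u = 4 :=
          CfsgLib.Linear.TwoSylow.exists_orderOf_of_dvd (by
            rw [Nat.card_units, Nat.card_eq_fintype_card]; omega)
        have huZ : u ∈ (Z : Subgroup Fˣ) := mem_sylow_units Z (j := 2) (by
          rw [show 2 ^ 2 = orderOf u by rw [hu]; rfl, pow_orderOf_eq_one])
        have h := hcomm _ (hW (diag_mem huZ (one_mem _)))
        have h0 : ∀ (p : Fˣ × Fˣ), (CfsgLib.Linear.TwoSylow.diagHom p : GL (Fin 2) F)⁻¹ =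
            CfsgLib.Linear.TwoSylow.diagHom p⁻¹ := fun p => (map_inv _ _).symm
        rw [h0] at h
        have h1 := congrArg (fun g : GL (Fin 2) F => (g : Matrix (Fin 2) (Fin 2) F) 0 0) h
        simp [CfsgLib.Linear.TwoSylow.swapGL, CfsgLib.Linear.TwoSylow.diagHom_val,
          Matrix.mul_apply, Fin.sum_univ_two] at h1
        have hu2 : u * u = 1 := by
          refine Units.ext ?_
          have ha0 : (a : F) ≠ 0 := a.ne_zero
          have hb0 : (b : F) ≠ 0 := b.ne_zero
          have hu0 : (u : F) ≠ 0 := u.ne_zero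
          rw [Units.val_mul, Units.val_one]
          field_simp at h1
          first | linear_combination h1 | linear_combination -h1
        have : orderOf u ∣ 2 := orderOf_dvd_of_pow_eq_one (by rw [pow_two, hu2])
        rw [hu] at this
        exact absurd (Nat.le_of_dvd two_pos this) (by norm_num)
    · rintro _ ⟨⟨a, b⟩, hab, rfl⟩
      exact hW (diag_mem (hμZ a (hμ2 a hab.1)) (hμZ b (hμ2 b hab.2)))
    · refine ⟨⟨⟨?_⟩⟩, ?_⟩
      · rintro ⟨_, p, hp, rfl⟩ ⟨_, p', hp', rfl⟩
        exact Subtype.ext (show CfsgLib.Linear.TwoSylow.diagHom p * CfsgLib.Linear.TwoSylow.diagHom p' =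
          CfsgLib.Linear.TwoSylow.diagHom p' * CfsgLib.Linear.TwoSylow.diagHom p by
            rw [← map_mul, ← map_mul, mul_comm])
      · rintro _ ⟨⟨a, b⟩, hab, rfl⟩
        rw [← map_pow, show ((a, b) : Fˣ × Fˣ) ^ 2 = 1 from
          Prod.ext (by simpa [pow_two] using hμ2 a hab.1) (by simpa [pow_two] using hμ2 b hab.2), map_one]
    · intro y hy a ha
      rw [← hM, mono, CfsgLib.Solvable.mem_sup_of_le_normalizer (mono_le_normalizer _)] at hy
      obtain ⟨s, hs, _, ⟨p, -, rfl⟩, rfl⟩ := hy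
      obtain ⟨⟨a₁, a₂⟩, hab, rfl⟩ := ha
      obtain ⟨i, hi⟩ := Subgroup.mem_zpowers_iff.1 hs
      have hd : s * CfsgLib.Linear.TwoSylow.diagHom p * CfsgLib.Linear.TwoSylow.diagHom (a₁, a₂) *
          (s * CfsgLib.Linear.TwoSylow.diagHom p)⁻¹ =
          s * CfsgLib.Linear.TwoSylow.diagHom (a₁, a₂) * s⁻¹ := by
        rw [_root_.mul_inv_rev, mul_assoc s (CfsgLib.Linear.TwoSylow.diagHom p), ← map_mul, mul_comm p,
          map_mul]
        group
      rw [hd]
      rw [← zpow_mod_orderOf, CfsgLib.Linear.TwoSylow.orderOf_swapGL] at hi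
      rcases (show i % (2 : ℕ) = 0 ∨ i % (2 : ℕ) = 1 by omega) with h | h <;> rw [h] at hi <;> subst hi
      · rw [zpow_zero, one_mul, inv_one, mul_one]
        exact ⟨(a₁, a₂), hab, rfl⟩
      · rw [zpow_one, CfsgLib.Linear.TwoSylow.swap_conj]
        exact ⟨(a₂, a₁), ⟨hab.2, hab.1⟩, rfl⟩
  · let sc : Fˣ →* GL (Fin 2) F := CfsgLib.Linear.TwoSylow.diagHom.comp ((MonoidHom.id Fˣ).prod (MonoidHom.id Fˣ))
    have hsc : Function.Injective sc := fun a b h =>
      congrArg Prod.fst (CfsgLib.Linear.TwoSylow.diagHom_injective h)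
    let A : Subgroup (GL (Fin 2) F) := (Subgroup.zpowers (-1 : Fˣ)).map sc
    have hAc : Nat.card A = 2 := by rw [Subgroup.card_map_of_injective hsc, hμc]
    have hcen : ∀ (z : Fˣ) (y : GL (Fin 2) F), y * sc z = sc z * y := by
      intro z y
      refine Units.ext (Matrix.ext fun i j => ?_)
      fin_cases i <;> fin_cases j <;>
        simp [sc, CfsgLib.Linear.TwoSylow.diagHom_val, Matrix.mul_apply, Fin.sum_univ_two, mul_comm]
    refine hpack (A : Set (GL (Fin 2) F)) A 2 _ (pow_add 2 k r) ?_ (le_of_eq hAc) ?_ ?_ ?_ hAc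
    · intro g hg hgg hcomm
      have hneg : sc (-1) ∈ A := ⟨-1, Subgroup.mem_zpowers _, rfl⟩
      have hSLcase : ∀ h : SL F, h * h = 1 → (Matrix.SpecialLinearGroup.toGL h : GL (Fin 2) F) = 1 ∨
          (Matrix.SpecialLinearGroup.toGL h : GL (Fin 2) F) = sc (-1) := by
        intro h hh
        by_cases h1 : h = 1
        · exact Or.inl (by rw [h1, map_one])
        · refine Or.inr (Units.ext ?_)
          have h2 : h = negOne F := CfsgLib.Linear.SylowTwoSL.eq_neg_one hodd h1 hh
          rw [h2]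
          show mt (negOne F) = (sc (-1)).val
          rw [mt_negOne]
          refine Matrix.ext fun i j => ?_
          fin_cases i <;> fin_cases j <;> simp [sc, CfsgLib.Linear.TwoSylow.diagHom_val]
      have hdet : Matrix.GeneralLinearGroup.det g * Matrix.GeneralLinearGroup.det g = 1 := by
        rw [← map_mul, hgg, map_one]
      rcases hroots _ hdet with hd | hd
      · obtain ⟨h, hh⟩ : ∃ h : SL F, (Matrix.SpecialLinearGroup.toGL h : GL (Fin 2) F) = g :=
          ⟨⟨g.1, by simpa using congrArg Units.val hd⟩, Units.ext rfl⟩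
        have hhh : h * h = 1 := by
          have : (Matrix.SpecialLinearGroup.toGL (h * h) : GL (Fin 2) F) = Matrix.SpecialLinearGroup.toGL (1 : SL F) := by
            rw [map_mul, hh, hgg, map_one]
          exact Subtype.ext (congrArg Units.val this)
        rcases hSLcase h hhh with h1 | h1 <;> rw [← hh, h1]
        · exact one_mem _
        · exact hneg
      · exfalso
        have hgd : g.1 0 0 * g.1 1 1 - g.1 0 1 * g.1 1 0 = -1 := by
          rw [← Matrix.det_fin_two]
          simpa using congrArg Units.val hd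
        -- an element of order four commuting with `g`
        obtain ⟨R, -, hR⟩ := (W_inf_SL hodd W).1 1 (by rw [map_one]; exact one_mem _)
        have hanti : ∀ y ∈ (R : Subgroup (SL F)),
            g * Matrix.SpecialLinearGroup.toGL y = Matrix.SpecialLinearGroup.toGL y * g ∨
            g * Matrix.SpecialLinearGroup.toGL y = sc (-1) * (Matrix.SpecialLinearGroup.toGL y * g) := by
          intro y hy
          set Y : GL (Fin 2) F := Matrix.SpecialLinearGroup.toGL y with hY
          have hc := hcomm Y (hR y hy)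
          have hcc : g * (Y * g * Y⁻¹) * (g * (Y * g * Y⁻¹)) = 1 := by
            calc g * (Y * g * Y⁻¹) * (g * (Y * g * Y⁻¹))
                = g * (Y * g * Y⁻¹) * ((Y * g * Y⁻¹) * g) := by rw [hc]
              _ = g * (Y * (g * g) * Y⁻¹) * g := by group
              _ = 1 := by rw [hgg, mul_one, mul_inv_cancel, mul_one, hgg]
          have hcd : Matrix.GeneralLinearGroup.det (g * (Y * g * Y⁻¹)) = 1 := by
            rw [map_mul, map_mul, map_mul, map_inv, mul_comm (Matrix.GeneralLinearGroup.det Y),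
              mul_inv_cancel_right, hdet]
          obtain ⟨h, hh⟩ : ∃ h : SL F, (Matrix.SpecialLinearGroup.toGL h : GL (Fin 2) F) = g * (Y * g * Y⁻¹) :=
            ⟨⟨_, (congrArg Units.val hcd :)⟩, Units.ext rfl⟩
          have hhh : h * h = 1 := by
            have : (Matrix.SpecialLinearGroup.toGL (h * h) : GL (Fin 2) F) = Matrix.SpecialLinearGroup.toGL (1 : SL F) := by
              rw [map_mul, hh, hcc, map_one]
            exact Subtype.ext (congrArg Units.val this)
          have hgi : g⁻¹ = g := inv_eq_of_mul_eq_one_right hgg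
          rcases hSLcase h hhh with h1 | h1 <;> rw [hh] at h1
          · left
            have h2 := congrArg (fun z => z * (Y * g⁻¹)) h1
            simp only [one_mul] at h2
            rw [show g * (Y * g * Y⁻¹) * (Y * g⁻¹) = g * Y by group, hgi] at h2
            exact h2
          · right
            have h2 := congrArg (fun z => z * (Y * g⁻¹)) h1
            rw [show g * (Y * g * Y⁻¹) * (Y * g⁻¹) = g * Y by group, hgi] at h2
            exact h2
        obtain ⟨k', hk', ⟨eQ⟩⟩ := CfsgLib.Linear.SylowTwoSL.exists_quaternion hodd R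
        haveI : NeZero (2 ^ k') := ⟨pow_ne_zero _ two_ne_zero⟩
        have hsq : ∀ q : QuaternionGroup (2 ^ k'), q * q = QuaternionGroup.a (2 ^ k' : ℕ) →
            ((eQ.symm q : (R : Subgroup (SL F))) : SL F) * (eQ.symm q : (R : Subgroup (SL F))) = negOne F := by
          intro q hq'
          rw [← Subgroup.coe_mul, ← map_mul, hq']
          refine CfsgLib.Linear.SylowTwoSL.eq_neg_one hodd (fun h => ?_) ?_
          · have h' : eQ.symm (QuaternionGroup.a ((2 ^ k' : ℕ) : ZMod (2 * 2 ^ k'))) = eQ.symm 1 := by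
              rw [map_one]; exact Subtype.ext h
            have h'' := eQ.symm.injective h'
            rw [← QuaternionGroup.a_zero, QuaternionGroup.a.injEq, ZMod.natCast_eq_zero_iff] at h''
            have := Nat.le_of_dvd (Nat.two_pow_pos k') h''
            have := Nat.two_pow_pos k'
            omega
          · rw [← Subgroup.coe_mul, ← map_mul, QuaternionGroup.a_mul_a, ← Nat.cast_add, ← two_mul,
              ZMod.natCast_self, QuaternionGroup.a_zero, map_one, Subgroup.coe_one]
        obtain ⟨y, hy, hy2, hgy⟩ : ∃ y ∈ (R : Subgroup (SL F)), y * y = negOne F ∧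
            g * Matrix.SpecialLinearGroup.toGL y = Matrix.SpecialLinearGroup.toGL y * g := by
          let h' : ZMod (2 * 2 ^ k') := ((2 ^ (k' - 1) : ℕ) : ZMod (2 * 2 ^ k'))
          have hh' : h' + h' = ((2 ^ k' : ℕ) : ZMod (2 * 2 ^ k')) := by
            rw [← Nat.cast_add, show 2 ^ (k' - 1) + 2 ^ (k' - 1) = 2 ^ k' by
              rw [← two_mul, ← pow_succ']; congr 1; omega]
          let q1 : QuaternionGroup (2 ^ k') := QuaternionGroup.a h'
          let q2 : QuaternionGroup (2 ^ k') := QuaternionGroup.xa 0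
          have e1 := hsq q1 (by rw [QuaternionGroup.a_mul_a, hh'])
          have e2 := hsq q2 (by rw [QuaternionGroup.xa_mul_xa]; simp)
          have e3 := hsq (q1 * q2) (by
            show QuaternionGroup.a h' * QuaternionGroup.xa 0 * (QuaternionGroup.a h' * QuaternionGroup.xa 0) = _
            rw [QuaternionGroup.a_mul_xa, QuaternionGroup.xa_mul_xa]
            simp)
          rcases hanti _ (eQ.symm q1).2 with h1 | h1
          · exact ⟨_, (eQ.symm q1).2, e1, h1⟩
          rcases hanti _ (eQ.symm q2).2 with h2 | h2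
          · exact ⟨_, (eQ.symm q2).2, e2, h2⟩
          refine ⟨_, (eQ.symm (q1 * q2)).2, e3, ?_⟩
          have hcc : sc (-1) * sc (-1) = (1 : GL (Fin 2) F) := by
            rw [← map_mul, neg_mul_neg, one_mul, map_one]
          rw [map_mul eQ.symm, Subgroup.coe_mul, map_mul]
          generalize (Matrix.SpecialLinearGroup.toGL ((eQ.symm q1 : (R : Subgroup (SL F))) : SL F) :
            GL (Fin 2) F) = A' at h1 ⊢
          generalize (Matrix.SpecialLinearGroup.toGL ((eQ.symm q2 : (R : Subgroup (SL F))) : SL F) :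
            GL (Fin 2) F) = B' at h2 ⊢
          calc g * (A' * B') = g * A' * B' := (mul_assoc g A' B').symm
            _ = sc (-1) * (A' * g) * B' := by rw [h1]
            _ = sc (-1) * A' * (g * B') := by group
            _ = sc (-1) * A' * (sc (-1) * (B' * g)) := by rw [h2]
            _ = sc (-1) * (A' * sc (-1)) * (B' * g) := by group
            _ = sc (-1) * (sc (-1) * A') * (B' * g) := by rw [hcen]
            _ = sc (-1) * sc (-1) * (A' * B' * g) := by group
            _ = A' * B' * g := by rw [hcc, one_mul]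
        -- `y g` squares to `-1` and has determinant `-1`
        let u : Matrix (Fin 2) (Fin 2) F := y.1 * g.1
        have hu : u * u = -1 := by
          have hgy' : g.1 * y.1 = y.1 * g.1 := congrArg Units.val hgy
          have hgg' : g.1 * g.1 = 1 := congrArg Units.val hgg
          have hyy : y.1 * y.1 = -1 := by
            rw [← Matrix.SpecialLinearGroup.coe_mul, hy2]
            exact mt_negOne
          show y.1 * g.1 * (y.1 * g.1) = -1
          rw [show y.1 * g.1 * (y.1 * g.1) = y.1 * (g.1 * y.1) * g.1 by simp only [Matrix.mul_assoc], hgy',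
            show y.1 * (y.1 * g.1) * g.1 = y.1 * y.1 * (g.1 * g.1) by simp only [Matrix.mul_assoc],
            hgg', hyy, Matrix.mul_one]
        have hud : u 0 0 * u 1 1 - u 0 1 * u 1 0 = -1 := by
          rw [← Matrix.det_fin_two, Matrix.det_mul, y.2, one_mul, Matrix.det_fin_two, hgd]
        have h00 := congrFun (congrFun hu 0) 0
        have h01 := congrFun (congrFun hu 0) 1
        have h10 := congrFun (congrFun hu 1) 0
        simp [Matrix.mul_apply, Fin.sum_univ_two] at h00 h01 h10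
        have hnsq : ¬ IsSquare (-1 : F) := by
          rw [FiniteField.isSquare_neg_one_iff]
          omega
        have h2F : (2 : F) ≠ 0 := by
          refine Ring.two_ne_zero fun h2 => ?_
          have := FiniteField.even_card_of_char_two h2
          omega
        by_cases hs : u 0 0 + u 1 1 = 0
        · exact h2F (by linear_combination h00 + hud - (u 0 0) * hs)
        · have hb : u 0 1 = 0 :=
            (mul_eq_zero.1 (show u 0 1 * (u 0 0 + u 1 1) = 0 by linear_combination h01)).resolve_right hs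
          exact hnsq ⟨u 0 0, by rw [hb] at h00; linear_combination -h00⟩
    · rintro _ ⟨z, hz, rfl⟩
      exact hW (diag_mem (hμZ z (hμ2 z hz)) (hμZ z (hμ2 z hz)))
    · refine ⟨⟨⟨?_⟩⟩, ?_⟩
      · rintro ⟨_, p, hp, rfl⟩ ⟨_, p', hp', rfl⟩
        exact Subtype.ext (hcen p' (sc p))
      · rintro _ ⟨z, hz, rfl⟩
        rw [← map_pow, pow_two, hμ2 z hz, map_one]
    · intro y _ a ha
      obtain ⟨z, hz, rfl⟩ := ha
      rw [hcen, mul_inv_cancel_right]
      exact ⟨z, hz, rfl⟩

end CfsgLib.SylowTwoGL
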