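import Cfsg.Agent.SylowTwoGL.Facts
import Mathlib.GroupTheory.Abelianization.Defs
import Mathlib.Data.Nat.Bitwise

/-!
# Sylow 2-subgroups of `SL(n, q)` with elementary abelian abelianisation
-/

set_option autoImplicit false
set_option linter.style.haveILetI false
set_option linter.unusedSectionVars false

namespace CfsgLib.SylowTwoGL

open Matrix CfsgLib.SL2C

theorem xor_div (a b i : ℕ) : (a ^^^ b) / 2 ^ i = (a / 2 ^ i) ^^^ (b / 2 ^ i) := by
  rw [← Nat.shiftRight_eq_div_pow, ← Nat.shiftRight_eq_div_pow, ← Nat.shiftRight_eq_div_pow,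
    Nat.shiftRight_xor_distrib]

/-- Any two points of `Fin (2 ^ j)` are swapped by an element of the tree group. -/
theorem exists_swapper (j : ℕ) (s t : Fin (2 ^ j)) :
    ∃ σ ∈ CfsgLib.SylowAlt.tree (2 ^ j), σ * σ = 1 ∧ σ s = t ∧ σ t = s := by
  let c : ℕ := s.val ^^^ t.val
  have hc : c < 2 ^ j := Nat.xor_lt_two_pow s.isLt t.isLt
  let f : Fin (2 ^ j) → Fin (2 ^ j) := fun a => ⟨a.val ^^^ c, Nat.xor_lt_two_pow a.isLt hc⟩
  have hf : Function.Involutive f := fun a => Fin.ext (by
    show (a.val ^^^ c) ^^^ c = a.val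
    rw [Nat.xor_assoc, Nat.xor_self, Nat.xor_zero])
  refine ⟨hf.toPerm f, ?_, Equiv.ext hf, Fin.ext ?_, Fin.ext ?_⟩
  · rw [CfsgLib.SylowAlt.mem_tree]
    intro i a b
    show (a.val ^^^ c) / 2 ^ i = (b.val ^^^ c) / 2 ^ i ↔ _
    rw [xor_div a.val c, xor_div b.val c]
    exact Nat.xor_left_inj
  · show s.val ^^^ (s.val ^^^ t.val) = t.val
    rw [← Nat.xor_assoc, Nat.xor_self, Nat.zero_xor]
  · show t.val ^^^ (s.val ^^^ t.val) = s.val
    rw [Nat.xor_comm s.val, ← Nat.xor_assoc, Nat.xor_self, Nat.zero_xor]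

variable {F : Type*} [Field F] [Fintype F] {k r : ℕ}

local notation "toGL'" => (Matrix.SpecialLinearGroup.toGL :
  Matrix.SpecialLinearGroup (Idx k r) F →* GL (Idx k r) F)

theorem special_sq (hodd : Odd (Fintype.card F)) (W : Sylow 2 (GL (Fin 2) F)) (Z : Sylow 2 Fˣ)
    (hW : mono (Z : Subgroup Fˣ) ≤ (W : Subgroup (GL (Fin 2) F))) (hk : 1 ≤ k) (hr : r ≤ 1)
    (hcase : Fintype.card F % 4 = 3 ∨ (r = 0 ∧ ∃ j, k = 2 ^ j))
    (P : Subgroup (Matrix.SpecialLinearGroup (Idx k r) F))
    (hP : P = (model (W : Subgroup (GL (Fin 2) F)) (Z : Subgroup Fˣ) k r).comap toGL')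
    (x : P) : x ^ 2 ∈ commutator P := by
  classical
  haveI : Fact (Nat.Prime 2) := ⟨Nat.prime_two⟩
  have hinj : Function.Injective toGL' := fun a b h => Subtype.ext (congrArg Units.val h)
  have hrange : ∀ g : GL (Idx k r) F, Matrix.GeneralLinearGroup.det g = 1 →
      ∃ a : Matrix.SpecialLinearGroup (Idx k r) F, toGL' a = g := fun g h =>
    ⟨⟨g.1, by simpa using congrArg Units.val h⟩, Units.ext rfl⟩
  have hdet1 : ∀ a : Matrix.SpecialLinearGroup (Idx k r) F,
      Matrix.GeneralLinearGroup.det (toGL' a) = 1 := fun a => Units.ext (by simpa using a.2)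
  let ρ : P →* GL (Idx k r) F := (Matrix.SpecialLinearGroup.toGL).comp P.subtype
  have hρ : Function.Injective ρ := hinj.comp P.subtype_injective
  have hlift : ∀ g ∈ model (W : Subgroup (GL (Fin 2) F)) (Z : Subgroup Fˣ) k r,
      Matrix.GeneralLinearGroup.det g = 1 → ∃ y : P, ρ y = g := fun g hg h => by
    obtain ⟨a, rfl⟩ := hrange g h
    exact ⟨⟨a, by rw [hP]; exact hg⟩, rfl⟩
  let H : Subgroup P := ((powMonoidHom 2).comp (Abelianization.of (G := P))).ker
  have hH : ∀ y : P, y ∈ H ↔ y ^ 2 ∈ commutator P := fun y => by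
    rw [← Abelianization.ker_of, MonoidHom.mem_ker, MonoidHom.mem_ker, map_pow]
    rfl
  let G : Subgroup (GL (Idx k r) F) := H.map ρ
  have hGsq : ∀ g ∈ model (W : Subgroup (GL (Fin 2) F)) (Z : Subgroup Fˣ) k r,
      Matrix.GeneralLinearGroup.det g = 1 → g * g = 1 → g ∈ G := fun g hg h hgg => by
    obtain ⟨y, rfl⟩ := hlift g hg h
    refine ⟨y, (hH y).2 ?_, rfl⟩
    rw [show y ^ 2 = 1 from hρ (by rw [map_pow, map_one, pow_two, hgg])]
    exact one_mem _
  -- the base part from `SL 2`
  have hone : ∀ (t : Fin k) (g : SL F),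
      (Matrix.SpecialLinearGroup.toGL g : GL (Fin 2) F) ∈ (W : Subgroup (GL (Fin 2) F)) →
      baseHom (Pi.mulSingle t (Matrix.SpecialLinearGroup.toGL g), (1 : Fin r → Fˣ)) ∈ G := by
    intro t g hg
    obtain ⟨R, hgR, hRW⟩ := (W_inf_SL hodd W).1 g hg
    let θ : (R : Subgroup (SL F)) →* GL (Idx k r) F :=
      (baseHom (F := F) (k := k) (r := r)).comp
        ((MonoidHom.inl _ _).comp ((MonoidHom.mulSingle (fun _ : Fin k => GL (Fin 2) F) t).comp
          ((Matrix.SpecialLinearGroup.toGL).comp (R : Subgroup (SL F)).subtype)))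
    have hθ : ∀ y, ∃ z : P, ρ z = θ y := fun y => by
      refine hlift _ (base_mem_model (fun s => ?_) fun _ => one_mem _) ?_
      · rcases eq_or_ne s t with rfl | hst
        · simp only [MonoidHom.coe_comp, Function.comp_apply, MonoidHom.mulSingle_apply, Pi.mulSingle_eq_same]
          exact hRW _ y.2
        · simp only [MonoidHom.coe_comp, Function.comp_apply, MonoidHom.mulSingle_apply, Pi.mulSingle_eq_of_ne hst]
          exact one_mem _
      · show Matrix.GeneralLinearGroup.det (baseHom _) = 1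
        rw [det_baseHom]
        simp only [MonoidHom.inl_apply, MonoidHom.mulSingle_apply, MonoidHom.coe_comp, Function.comp_apply]
        rw [show (∏ j : Fin r, (1 : Fin r → Fˣ) j) = 1 by simp, mul_one]
        refine Finset.prod_eq_one fun s _ => ?_
        rcases eq_or_ne s t with rfl | hst
        · rw [Pi.mulSingle_eq_same]
          exact Units.ext (by simpa using (y : SL F).2)
        · rw [Pi.mulSingle_eq_of_ne hst, map_one]
    choose ζ hζ using hθ
    let ζh : (R : Subgroup (SL F)) →* P :=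
      { toFun := ζ
        map_one' := hρ (by rw [hζ, map_one, map_one])
        map_mul' := fun a b => hρ (by rw [hζ, map_mul, map_mul, hζ, hζ]) }
    have h := map_derivedSeries_le_derivedSeries ζh 1
    rw [derivedSeries_one, derivedSeries_one] at h
    have h2 := h ⟨_, (CfsgLib.SympSylowTwo.sylow_sl_facts hodd R).1 ⟨g, hgR⟩, rfl⟩
    exact ⟨ζ ⟨g, hgR⟩, (hH _).2 (by rw [map_pow] at h2; exact h2), hζ _⟩
  have hbase : ∀ f : Fin k → SL F,
      (∀ t, (Matrix.SpecialLinearGroup.toGL (f t) : GL (Fin 2) F) ∈ (W : Subgroup (GL (Fin 2) F))) →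
      baseHom ((fun t => Matrix.SpecialLinearGroup.toGL (f t)), (1 : Fin r → Fˣ)) ∈ G := by
    intro f hf
    have hall : ∀ s : Finset (Fin k), baseHom ((fun t => if t ∈ s then Matrix.SpecialLinearGroup.toGL (f t) else 1),
        (1 : Fin r → Fˣ)) ∈ G := by
      intro s
      induction s using Finset.induction_on with
      | empty =>
        rw [show ((fun t : Fin k => if t ∈ (∅ : Finset (Fin k)) then
          (Matrix.SpecialLinearGroup.toGL (f t) : GL (Fin 2) F) else 1), (1 : Fin r → Fˣ)) = 1 by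
          refine Prod.ext (funext fun t => ?_) rfl
          simp, map_one]
        exact one_mem G
      | insert a s ha ih =>
        rw [show ((fun t => if t ∈ insert a s then (Matrix.SpecialLinearGroup.toGL (f t) : GL (Fin 2) F) else 1),
            (1 : Fin r → Fˣ)) =
          ((Pi.mulSingle a (Matrix.SpecialLinearGroup.toGL (f a) : GL (Fin 2) F)), (1 : Fin r → Fˣ)) *
          ((fun t => if t ∈ s then (Matrix.SpecialLinearGroup.toGL (f t) : GL (Fin 2) F) else 1), 1) by
          refine Prod.ext (funext fun t => ?_) (one_mul _).symm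
          rcases eq_or_ne t a with rfl | hta
          · simp [ha]
          · simp [hta], map_mul]
        exact G.mul_mem (hone a _ (hf a)) ih
    simpa using hall Finset.univ
  -- the correcting diagonal part
  let sec : Fˣ →* GL (Fin 2) F :=
    CfsgLib.Linear.TwoSylow.diagHom.comp (MonoidHom.inl Fˣ Fˣ)
  have hsecW : ∀ z ∈ (Z : Subgroup Fˣ), sec z ∈ (W : Subgroup (GL (Fin 2) F)) := fun z hz =>
    hW (diag_mem hz (one_mem _))
  have hsecdet : ∀ z, Matrix.GeneralLinearGroup.det (sec z) = z := fun z => Units.ext (by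
    show (Matrix.det !![(z : F), 0; 0, ((1 : Fˣ) : F)]) = z
    simp [Matrix.det_fin_two])
  have hdiag : ∀ (c : Fin k → Fˣ) (d : Fin r → Fˣ), (∀ t, c t ∈ (Z : Subgroup Fˣ)) →
      (∀ j, d j ∈ (Z : Subgroup Fˣ)) → (∏ t, c t) * ∏ j, d j = 1 →
      baseHom ((fun t => sec (c t)), d) ∈ G := by
    intro c d hc hd hprod
    rcases hcase with h3 | ⟨hr0, j, hj⟩
    · refine hGsq _ (base_mem_model (fun t => hsecW _ (hc t)) hd) ?_ ?_
      · rw [det_baseHom]; simp only [hsecdet]; exact hprod
      · rw [← map_mul, ← map_one baseHom]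
        congr 1
        refine Prod.ext (funext fun t => ?_) (funext fun i => ?_)
        · show sec (c t) * sec (c t) = 1
          rw [← map_mul, sq_eq_one_of_three h3 Z (hc t), map_one]
        · exact sq_eq_one_of_three h3 Z (hd i)
    · subst hr0
      rw [Finset.univ_eq_empty (α := Fin 0), Finset.prod_empty, mul_one] at hprod
      obtain rfl : d = 1 := Subsingleton.elim _ _
      subst hj
      let t₀ : Fin (2 ^ j) := ⟨0, Nat.two_pow_pos j⟩
      let pr : Fin (2 ^ j) → Fˣ → GL (Idx (2 ^ j) 0) F := fun t z =>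
        baseHom ((fun s => sec ((if s = t then z else 1) * (if s = t₀ then z⁻¹ else 1))), 1)
      have hprW : ∀ t z, z ∈ (Z : Subgroup Fˣ) → ∀ s,
          (if s = t then z else 1) * (if s = t₀ then z⁻¹ else 1) ∈ (Z : Subgroup Fˣ) := by
        intro t z hz s
        refine mul_mem ?_ ?_ <;> split_ifs
        exacts [hz, one_mem _, inv_mem hz, one_mem _]
      have hpr : ∀ t z, z ∈ (Z : Subgroup Fˣ) → pr t z ∈ G := by
        intro t z hz
        obtain ⟨σ, hσ, -, hσt, hσt0⟩ := exists_swapper j t t₀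
        obtain ⟨y, hy⟩ := hlift (pr t z)
          (base_mem_model (fun s => hsecW _ (hprW t z hz s)) fun _ => one_mem _) (by
            rw [det_baseHom]
            simp only [hsecdet, Finset.prod_mul_distrib, Finset.prod_ite_eq', Finset.mem_univ, if_true]
            simp)
        obtain ⟨u, hu⟩ := hlift (permHom σ) (perm_mem_model hσ) (det_permHom σ)
        refine ⟨y, (hH y).2 ?_, hy⟩
        have hkey : u * y * u⁻¹ = y⁻¹ := hρ (by
          rw [map_mul, map_mul, map_inv, map_inv, hu, hy, conj_base, ← map_inv]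
          congr 1
          refine Prod.ext (funext fun s => ?_) (Subsingleton.elim _ _)
          show sec _ = (sec _)⁻¹
          rw [← map_inv]
          congr 1
          have e1 : σ.symm s = t ↔ s = t₀ := by rw [Equiv.symm_apply_eq, hσt]
          have e2 : σ.symm s = t₀ ↔ s = t := by rw [Equiv.symm_apply_eq, hσt0]
          simp only [e1, e2]
          split_ifs <;> simp)
        have hcm := Subgroup.commutator_mem_commutator (H₁ := (⊤ : Subgroup P)) (H₂ := ⊤)
          (Subgroup.mem_top u) (Subgroup.mem_top y)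
        rw [commutatorElement_def, hkey, ← _root_.mul_inv_rev, ← pow_two] at hcm
        rw [_root_.commutator_def]
        exact inv_mem_iff.1 hcm
      have hall : ∀ s : Finset (Fin (2 ^ j)),
          baseHom ((fun i => sec ((if i ∈ s then c i else 1) *
            (if i = t₀ then (∏ t ∈ s, c t)⁻¹ else 1))), (1 : Fin 0 → Fˣ)) ∈ G := by
        intro s
        induction s using Finset.induction_on with
        | empty =>
          rw [show ((fun i : Fin (2 ^ j) => sec ((if i ∈ (∅ : Finset (Fin (2 ^ j))) then c i else 1) *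
            (if i = t₀ then (∏ t ∈ (∅ : Finset (Fin (2 ^ j))), c t)⁻¹ else 1))), (1 : Fin 0 → Fˣ)) = 1 by
            refine Prod.ext (funext fun i => ?_) rfl
            simp, map_one]
          exact one_mem G
        | insert a s ha ih =>
          have hmul := G.mul_mem (hpr a (c a) (hc a)) ih
          simp only [pr] at hmul
          rw [← map_mul] at hmul
          convert hmul using 2
          refine Prod.ext (funext fun i => ?_) (Subsingleton.elim _ _)
          show sec _ = sec _ * sec _
          rw [← map_mul]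
          congr 1
          rw [Finset.prod_insert ha]
          rcases eq_or_ne i a with rfl | hia
          · rcases eq_or_ne i t₀ with rfl | h0
            · simp [ha, _root_.mul_inv_rev, mul_comm, mul_left_comm]
            · simp [ha, h0]
          · rcases eq_or_ne i t₀ with rfl | h0
            · simp [hia, _root_.mul_inv_rev, mul_comm, mul_left_comm]
            · simp [hia, h0]
      have := hall Finset.univ
      rw [hprod] at this
      simpa using this
  -- assemble
  have hxmem : ρ x ∈ model (W : Subgroup (GL (Fin 2) F)) (Z : Subgroup Fˣ) k r := by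
    exact hP.le x.2
  obtain ⟨f, hf, d, hd, σ, hσ, he⟩ := mem_model.1 hxmem
  have hperm : ∀ τ ∈ CfsgLib.SylowAlt.tree k, permHom τ ∈ G := by
    intro τ hτ
    have hle : Subgroup.closure {τ : Equiv.Perm (Fin k) | τ ∈ CfsgLib.SylowAlt.tree k ∧ τ * τ = 1} ≤
        G.comap (permHom (F := F) (r := r)) := by
      refine (Subgroup.closure_le _).2 fun s hs => ?_
      exact hGsq _ (perm_mem_model hs.1) (det_permHom s) (by rw [← map_mul, hs.2, map_one])
    exact hle (CfsgLib.OrthSylow.tree_le_closure_involutions k hτ)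
  let c : Fin k → Fˣ := fun t => Matrix.GeneralLinearGroup.det (f t)
  have hc : ∀ t, c t ∈ (Z : Subgroup Fˣ) := fun t => by
    obtain ⟨a, ha⟩ := (W.isPGroup'.map (Matrix.GeneralLinearGroup.det : GL (Fin 2) F →* Fˣ))
      ⟨c t, f t, hf t, rfl⟩
    exact mem_sylow_units Z (congrArg Subtype.val ha)
  have hprod : (∏ t, c t) * ∏ j, d j = 1 := by
    have h1 : Matrix.GeneralLinearGroup.det (ρ x) = 1 := hdet1 x
    rwa [← he, map_mul, det_permHom, mul_one, det_baseHom] at h1
  have hsl : ∀ t, ∃ g : SL F, (Matrix.SpecialLinearGroup.toGL g : GL (Fin 2) F) = f t * (sec (c t))⁻¹ := by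
    intro t
    have h : Matrix.GeneralLinearGroup.det (f t * (sec (c t))⁻¹) = 1 := by
      rw [map_mul, map_inv, hsecdet]; exact mul_inv_cancel _
    exact ⟨⟨_, by simpa using congrArg Units.val h⟩, Units.ext rfl⟩
  choose g hg using hsl
  have hmain : ρ x ∈ G := by
    rw [← he]
    refine G.mul_mem ?_ (hperm σ hσ)
    rw [show ((f, d) : (Fin k → GL (Fin 2) F) × (Fin r → Fˣ)) =
      ((fun t => (Matrix.SpecialLinearGroup.toGL (g t) : GL (Fin 2) F)), (1 : Fin r → Fˣ)) *
        ((fun t => sec (c t)), d) by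
      refine Prod.ext (funext fun t => ?_) (one_mul _).symm
      show f t = Matrix.SpecialLinearGroup.toGL (g t) * sec (c t)
      rw [hg, inv_mul_cancel_right], map_mul]
    exact G.mul_mem (hbase g fun t => by
      rw [hg]; exact mul_mem (hf t) (inv_mem (hsecW _ (hc t)))) (hdiag c d hc hd hprod)
  obtain ⟨y, hy, hyx⟩ := hmain
  rw [← hρ hyx]
  exact (hH y).1 hy

theorem special_main (hodd : Odd (Fintype.card F)) {n : ℕ} (hk : 1 ≤ k) (hr : r ≤ 1) (hn : n = 2 * k + r)
    (hcase : Fintype.card F % 4 = 3 ∨ (r = 0 ∧ ∃ j, k = 2 ^ j))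
    (S : Sylow 2 (Matrix.SpecialLinearGroup (Fin n) F))
    (x : (S : Subgroup (Matrix.SpecialLinearGroup (Fin n) F))) :
    x ^ 2 ∈ commutator (S : Subgroup (Matrix.SpecialLinearGroup (Fin n) F)) := by
  classical
  haveI : Fact (Nat.Prime 2) := ⟨Nat.prime_two⟩
  let Z : Sylow 2 Fˣ := default
  obtain ⟨W, hW⟩ := exists_W Z
  let e : Idx k r ≃ Fin n := Fintype.equivFinOfCardEq (by simp [hn])
  let E : GL (Idx k r) F ≃* GL (Fin n) F := Units.mapEquiv (Matrix.reindexAlgEquiv F F e).toMulEquiv
  obtain ⟨i⟩ := exists_iso hodd W Z hn hr (default : Sylow 2 (GL (Fin n) F))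
  let M : Sylow 2 (GL (Idx k r) F) :=
    Sylow.ofCard (model (W : Subgroup (GL (Fin 2) F)) (Z : Subgroup Fˣ) k r) (by
      rw [← Nat.card_congr i.toEquiv, Sylow.card_eq_multiplicity, Nat.card_congr E.toEquiv])
  have hinj : Function.Injective toGL' := fun a b h => Subtype.ext (congrArg Units.val h)
  have hrange : (toGL').range = (Matrix.GeneralLinearGroup.det : GL (Idx k r) F →* Fˣ).ker := by
    ext g
    constructor
    · rintro ⟨a, rfl⟩
      exact Units.ext (by simpa using a.2)
    · intro h
      exact ⟨⟨g.1, by simpa using congrArg Units.val (MonoidHom.mem_ker.1 h)⟩, Units.ext rfl⟩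
  obtain ⟨R, hR⟩ := exists_sylow_comap toGL' hinj (hrange ▸ MonoidHom.normal_ker _) M
  let L : Matrix.SpecialLinearGroup (Idx k r) F ≃* Matrix.SpecialLinearGroup (Fin n) F :=
    { toFun := fun a => ⟨Matrix.reindex e e a.1, by rw [Matrix.det_reindex_self]; exact a.2⟩
      invFun := fun a => ⟨Matrix.reindex e.symm e.symm a.1, by rw [Matrix.det_reindex_self]; exact a.2⟩
      left_inv := fun a => Subtype.ext (by ext i j; simp)
      right_inv := fun a => Subtype.ext (by ext i j; simp)
      map_mul' := fun a b => Subtype.ext (by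
        show Matrix.reindex e e (a.1 * b.1) = Matrix.reindex e e a.1 * Matrix.reindex e e b.1
        simp [Matrix.submatrix_mul_equiv]) }
  obtain ⟨R', hR'⟩ := exists_sylow_comap L.symm.toMonoidHom L.symm.injective
    (by rw [MonoidHom.range_eq_top.2 L.symm.surjective]; infer_instance) R
  let θ : (S : Subgroup (Matrix.SpecialLinearGroup (Fin n) F)) →* (R : Subgroup (Matrix.SpecialLinearGroup (Idx k r) F)) :=
    (L.symm.toMonoidHom.comp (R' : Subgroup _).subtype).codRestrict (R : Subgroup _) (fun y => by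
      exact hR'.le y.2) |>.comp (S.equiv R').toMonoidHom
  have hθ : Function.Bijective θ := by
    refine ⟨fun a b h => (S.equiv R').injective (Subtype.ext (L.symm.injective (congrArg Subtype.val h :))),
      fun y => ⟨(S.equiv R').symm ⟨L y, ?_⟩, Subtype.ext ?_⟩⟩
    · rw [hR']
      show L.symm (L y) ∈ (R : Subgroup _)
      rw [L.symm_apply_apply]
      exact y.2
    · show L.symm (((S.equiv R') ((S.equiv R').symm _) : (R' : Subgroup (Matrix.SpecialLinearGroup (Fin n) F))) : Matrix.SpecialLinearGroup (Fin n) F) = y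
      rw [MulEquiv.apply_symm_apply, L.symm_apply_apply]
  let Θ := MulEquiv.ofBijective θ hθ
  have h := map_derivedSeries_le_derivedSeries Θ.symm.toMonoidHom 1
  rw [derivedSeries_one, derivedSeries_one] at h
  have h' := h ⟨_, special_sq hodd W Z hW hk hr hcase (R : Subgroup _) hR (Θ x), rfl⟩
  simpa using h'

end CfsgLib.SylowTwoGL
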