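import Cfsg.Agent.SylowTwoGL.Model
import Cfsg.Agent.SympSylowTwo.Main

/-!
# The constituents of the Sylow 2-subgroup of `GL(n, q)`
-/

set_option autoImplicit false
set_option linter.style.haveILetI false
set_option linter.unusedSectionVars false

namespace CfsgLib.SylowTwoGL

open Matrix CfsgLib.SL2C

/-- A Sylow subgroup meets a normally embedded group in a Sylow subgroup. -/
theorem exists_sylow_comap {p : ℕ} [Fact p.Prime] {G H : Type*} [Group G] [Finite G] [Group H] [Finite H]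
    (ι : H →* G) (hι : Function.Injective ι) (hn : ι.range.Normal) (S : Sylow p G) :
    ∃ R : Sylow p H, (R : Subgroup H) = (S : Subgroup G).comap ι := by
  obtain ⟨R, hR⟩ := (S.isPGroup'.comap_of_injective ι hι).exists_le_sylow
  obtain ⟨T, hT⟩ := (R.isPGroup'.map ι).exists_le_sylow
  obtain ⟨g, rfl⟩ := MulAction.exists_smul_eq G S T
  refine ⟨R, (Subgroup.eq_of_le_of_card_ge hR ?_).symm⟩
  have h1 : ∀ x : R, ∃ y : (S : Subgroup G).comap ι, ι y = g⁻¹ * ι x * g := fun x => by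
    obtain ⟨y, hy⟩ := hn.conj_mem _ ⟨(x : H), rfl⟩ g⁻¹
    rw [inv_inv] at hy
    refine ⟨⟨y, ?_⟩, hy⟩
    rw [Subgroup.mem_comap, hy]
    have hx : ι x ∈ ((g • S : Sylow p G) : Subgroup G) := hT ⟨x, x.2, rfl⟩
    rw [Sylow.smul_def, Sylow.pointwise_smul_def] at hx
    have := Subgroup.mem_pointwise_smul_iff_inv_smul_mem.1 hx
    simpa [MulAut.smul_def, MulAut.conj_symm_apply] using this
  choose f hf using h1
  refine Nat.card_le_card_of_injective f fun x y h => ?_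
  have := (hf x).symm.trans ((congrArg (fun z : (S : Subgroup G).comap ι => ι z) h).trans (hf y))
  exact Subtype.ext (hι (mul_left_cancel (mul_right_cancel this)))

theorem mem_sylow_units {K : Type*} [Field K] [Fintype K] (Z : Sylow 2 Kˣ) {z : Kˣ} {j : ℕ}
    (hz : z ^ 2 ^ j = 1) : z ∈ (Z : Subgroup Kˣ) := by
  have hp : IsPGroup 2 (Subgroup.zpowers z) := by
    rintro ⟨y, i, rfl⟩
    refine ⟨j, Subtype.ext ?_⟩
    show (z ^ i) ^ 2 ^ j = 1
    rw [← zpow_natCast, zpow_comm, zpow_natCast, hz, _root_.one_zpow]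
  have h := Z.3 (hp.to_sup_of_normal_left Z.isPGroup') le_sup_right
  rw [← h]
  exact Subgroup.mem_sup_left (Subgroup.mem_zpowers z)

variable {F : Type*} [Field F] [Fintype F]

/-- The monomial 2-group of `GL 2`. -/
def mono (Z : Subgroup Fˣ) : Subgroup (GL (Fin 2) F) :=
  Subgroup.zpowers (CfsgLib.Linear.TwoSylow.swapGL F) ⊔ (Z.prod Z).map CfsgLib.Linear.TwoSylow.diagHom

theorem mono_le_normalizer (Z : Subgroup Fˣ) :
    Subgroup.zpowers (CfsgLib.Linear.TwoSylow.swapGL F) ≤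
      Subgroup.normalizer (((Z.prod Z).map CfsgLib.Linear.TwoSylow.diagHom : Subgroup (GL (Fin 2) F)) : Set _) := by
  refine Subgroup.zpowers_le.2 (Subgroup.mem_normalizer_iff.2 fun x => ?_)
  have key : ∀ x ∈ (Z.prod Z).map CfsgLib.Linear.TwoSylow.diagHom,
      CfsgLib.Linear.TwoSylow.swapGL F * x * (CfsgLib.Linear.TwoSylow.swapGL F)⁻¹ ∈
        (Z.prod Z).map CfsgLib.Linear.TwoSylow.diagHom := by
    rintro _ ⟨⟨a, b⟩, h, rfl⟩
    exact ⟨(b, a), ⟨h.2, h.1⟩, (CfsgLib.Linear.TwoSylow.swap_conj a b).symm⟩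
  refine ⟨key x, fun hx => ?_⟩
  have h := key _ hx
  have hs : CfsgLib.Linear.TwoSylow.swapGL F * CfsgLib.Linear.TwoSylow.swapGL F = 1 := by
    have h2 := pow_orderOf_eq_one (CfsgLib.Linear.TwoSylow.swapGL F)
    rwa [CfsgLib.Linear.TwoSylow.orderOf_swapGL, pow_two] at h2
  rw [show CfsgLib.Linear.TwoSylow.swapGL F * (CfsgLib.Linear.TwoSylow.swapGL F * x * (CfsgLib.Linear.TwoSylow.swapGL F)⁻¹) *
      (CfsgLib.Linear.TwoSylow.swapGL F)⁻¹ = (CfsgLib.Linear.TwoSylow.swapGL F * CfsgLib.Linear.TwoSylow.swapGL F) * x *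
        (CfsgLib.Linear.TwoSylow.swapGL F * CfsgLib.Linear.TwoSylow.swapGL F)⁻¹ by group, hs, one_mul, inv_one, mul_one] at h
  exact h

theorem isPGroup_mono (Z : Sylow 2 Fˣ) : IsPGroup 2 (mono (Z : Subgroup Fˣ)) := by
  haveI : Fact (Nat.Prime 2) := ⟨Nat.prime_two⟩
  refine (CfsgLib.Linear.TwoSylow.isPGroup_zpowers (n := 1) (by rw [CfsgLib.Linear.TwoSylow.orderOf_swapGL, pow_one])
    ).to_sup_of_normal_right' ?_ (mono_le_normalizer _)
  refine IsPGroup.map ?_ _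
  obtain ⟨a, ha⟩ := IsPGroup.iff_card.1 Z.isPGroup'
  exact IsPGroup.of_card (n := a + a)
    (by rw [Nat.card_congr (Subgroup.prodEquiv _ _).toEquiv, Nat.card_prod, ha, ← pow_add])

theorem card_Z (Z : Sylow 2 Fˣ) :
    Nat.card (Z : Subgroup Fˣ) = 2 ^ padicValNat 2 (Fintype.card F - 1) := by
  haveI : Fact (Nat.Prime 2) := ⟨Nat.prime_two⟩
  rw [Z.card_eq_multiplicity, Nat.factorization_def _ Nat.prime_two, Nat.card_units,
    Nat.card_eq_fintype_card]

theorem sq_eq_one_of_three (hq : Fintype.card F % 4 = 3) (Z : Sylow 2 Fˣ) {z : Fˣ}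
    (hz : z ∈ (Z : Subgroup Fˣ)) : z * z = 1 := by
  haveI : Fact (Nat.Prime 2) := ⟨Nat.prime_two⟩
  have hv : padicValNat 2 (Fintype.card F - 1) = 1 := by
    obtain ⟨c, hc⟩ : ∃ c, Fintype.card F - 1 = 2 * c := ⟨(Fintype.card F - 1) / 2, by omega⟩
    rw [hc, padicValNat.mul two_ne_zero (by omega), padicValNat_self,
      padicValNat.eq_zero_of_not_dvd (by omega)]
  have h := pow_card_eq_one' (G := (Z : Subgroup Fˣ)) (x := ⟨z, hz⟩)
  rw [card_Z, hv, pow_one, pow_two] at h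
  exact congrArg Subtype.val h

theorem exists_W (Z : Sylow 2 Fˣ) : ∃ W : Sylow 2 (GL (Fin 2) F),
    mono (Z : Subgroup Fˣ) ≤ (W : Subgroup (GL (Fin 2) F)) :=
  (isPGroup_mono Z).exists_le_sylow

theorem diag_mem {Z : Subgroup Fˣ} {a b : Fˣ} (ha : a ∈ Z) (hb : b ∈ Z) :
    CfsgLib.Linear.TwoSylow.diagHom (a, b) ∈ mono Z :=
  Subgroup.mem_sup_right ⟨(a, b), ⟨ha, hb⟩, rfl⟩

theorem W_inf_SL (hodd : Odd (Fintype.card F)) (W : Sylow 2 (GL (Fin 2) F)) :
    (∀ g : SL F, (Matrix.SpecialLinearGroup.toGL g : GL (Fin 2) F) ∈ (W : Subgroup (GL (Fin 2) F)) →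
      ∃ R : Sylow 2 (SL F), g ∈ (R : Subgroup (SL F)) ∧
        ∀ y ∈ (R : Subgroup (SL F)), (Matrix.SpecialLinearGroup.toGL y : GL (Fin 2) F) ∈ (W : Subgroup (GL (Fin 2) F))) ∧
    ∃ x : GL (Fin 2) F, x ∈ (W : Subgroup (GL (Fin 2) F)) ∧ x * x ≠ 1 := by
  classical
  haveI : Fact (Nat.Prime 2) := ⟨Nat.prime_two⟩
  have hinj : Function.Injective (Matrix.SpecialLinearGroup.toGL : SL F → GL (Fin 2) F) :=
    fun a b h => Subtype.ext (congrArg Units.val h)
  have hrange : (Matrix.SpecialLinearGroup.toGL : SL F →* GL (Fin 2) F).range =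
      (Matrix.GeneralLinearGroup.det : GL (Fin 2) F →* Fˣ).ker := by
    ext g
    constructor
    · rintro ⟨a, rfl⟩
      exact Units.ext (by simpa using a.2)
    · intro h
      exact ⟨⟨g.1, by simpa using congrArg Units.val (MonoidHom.mem_ker.1 h)⟩, Units.ext rfl⟩
  obtain ⟨R, hR⟩ := exists_sylow_comap (Matrix.SpecialLinearGroup.toGL : SL F →* GL (Fin 2) F) hinj
    (hrange ▸ MonoidHom.normal_ker _) W
  refine ⟨fun g hg => ⟨R, by rw [hR]; exact hg, fun y hy => by rw [hR] at hy; exact hy⟩, ?_⟩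
  obtain ⟨-, ⟨x, hx, hxx⟩, -⟩ := CfsgLib.SympSylowTwo.sylow_sl_facts hodd R
  rw [hR] at hx
  exact ⟨_, hx, fun h => hxx (hinj (by rw [map_mul, map_one]; exact h))⟩

end CfsgLib.SylowTwoGL
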