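import Cfsg.Agent.Classical.SylowTwoGLTwo
import Cfsg.Agent.Classical.LinearOrder
import Cfsg.Agent.OrthSylow.Arith
import Cfsg.Agent.OrthSylow.Tree
import Cfsg.Agent.Solvable.Basics
import Mathlib.LinearAlgebra.Matrix.Kronecker
import Mathlib.LinearAlgebra.Matrix.GeneralLinearGroup.Card

/-!
# A Sylow 2-subgroup of `GL(2k + r, q)`, `q` odd, `r ≤ 1`: `(W ≀ tree k) × Z^r`
-/

set_option autoImplicit false
set_option linter.style.haveILetI false
set_option linter.unusedSectionVars false

namespace CfsgLib.SylowTwoGL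

open Matrix
open scoped Kronecker

variable {F : Type*} [Field F] {k r : ℕ}

/-- `k` planes and `r` lines. -/
abbrev Idx (k r : ℕ) : Type := (Fin 2 × Fin k) ⊕ Fin r

/-- The matrix acting independently on planes and lines. -/
def baseMat (f : Fin k → Matrix (Fin 2) (Fin 2) F) (d : Fin r → F) :
    Matrix (Idx k r) (Idx k r) F :=
  Matrix.fromBlocks (Matrix.blockDiagonal f) 0 0 (Matrix.diagonal d)

theorem baseMat_one : baseMat (1 : Fin k → Matrix (Fin 2) (Fin 2) F) (1 : Fin r → F) = 1 := by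
  rw [baseMat, ← Matrix.fromBlocks_one, Matrix.blockDiagonal_one,
    show Matrix.diagonal (1 : Fin r → F) = 1 from Matrix.diagonal_one]

theorem baseMat_mul (f g : Fin k → Matrix (Fin 2) (Fin 2) F) (d e : Fin r → F) :
    baseMat f d * baseMat g e = baseMat (f * g) (d * e) := by
  rw [baseMat, baseMat, baseMat, Matrix.fromBlocks_multiply, Matrix.diagonal_mul_diagonal]
  simp [← Matrix.blockDiagonal_mul]
  constructor <;> rfl

/-- Independent invertible matrices on planes and lines. -/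
def baseHom : (Fin k → GL (Fin 2) F) × (Fin r → Fˣ) →* GL (Idx k r) F where
  toFun x :=
    { val := baseMat (fun t => (x.1 t : Matrix (Fin 2) (Fin 2) F)) fun j => (x.2 j : F)
      inv := baseMat (fun t => ((x.1 t)⁻¹ : GL (Fin 2) F)) fun j => ((x.2 j)⁻¹ : Fˣ)
      val_inv := by
        rw [baseMat_mul, ← baseMat_one]
        congr 1
        · funext t; exact (x.1 t).mul_inv
        · funext j; exact (x.2 j).mul_inv
      inv_val := by
        rw [baseMat_mul, ← baseMat_one]
        congr 1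
        · funext t; exact (x.1 t).inv_mul
        · funext j; exact (x.2 j).inv_mul }
  map_one' := Units.ext (baseMat_one (F := F))
  map_mul' x y := Units.ext (by
    show baseMat _ _ = baseMat _ _ * baseMat _ _
    rw [baseMat_mul]
    rfl)

theorem baseHom_injective : Function.Injective (baseHom (F := F) (k := k) (r := r)) := by
  intro x y h
  have h' := congrArg Units.val h
  refine Prod.ext (funext fun t => Units.ext (Matrix.ext fun i j => ?_)) (funext fun j => Units.ext ?_)
  · simpa [baseHom, baseMat, Matrix.blockDiagonal_apply] using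
      congrFun (congrFun h' (.inl (i, t))) (.inl (j, t))
  · simpa [baseHom, baseMat] using congrFun (congrFun h' (.inr j)) (.inr j)

theorem det_baseHom (x : (Fin k → GL (Fin 2) F) × (Fin r → Fˣ)) :
    Matrix.GeneralLinearGroup.det (baseHom x) =
      (∏ t, Matrix.GeneralLinearGroup.det (x.1 t)) * ∏ j, x.2 j := by
  refine Units.ext ?_
  rw [Units.val_mul, Units.coe_prod, Units.coe_prod, Matrix.GeneralLinearGroup.val_det_apply]
  show (baseMat _ _).det = _
  simp [baseMat, Matrix.det_blockDiagonal, Matrix.det_diagonal]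

/-- The index permutation of a permutation of the planes. -/
def idxMap (σ : Equiv.Perm (Fin k)) : Idx k r → Idx k r := Sum.map (Prod.map id σ.symm) id

/-- The matrix of a permutation of the planes. -/
def permMat (σ : Equiv.Perm (Fin k)) : Matrix (Idx k r) (Idx k r) F :=
  (1 : Matrix (Idx k r) (Idx k r) F).submatrix (idxMap σ) id

theorem permMat_mulVec (σ : Equiv.Perm (Fin k)) (v : Idx k r → F) (i : Idx k r) :
    (permMat σ *ᵥ v) i = v (idxMap σ i) := by
  simp [permMat, Matrix.mulVec, dotProduct, Matrix.one_apply]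

theorem permMat_one : permMat (1 : Equiv.Perm (Fin k)) = (1 : Matrix (Idx k r) (Idx k r) F) := by
  refine Matrix.ext_of_mulVec_single fun j => funext fun i => ?_
  rw [permMat_mulVec, Matrix.one_mulVec]
  rcases i with ⟨a, t⟩ | i <;> rfl

theorem permMat_mul (σ τ : Equiv.Perm (Fin k)) :
    permMat (σ * τ) = (permMat σ * permMat τ : Matrix (Idx k r) (Idx k r) F) := by
  refine Matrix.ext_of_mulVec_single fun j => funext fun i => ?_
  rw [permMat_mulVec, ← Matrix.mulVec_mulVec, permMat_mulVec, permMat_mulVec]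
  rcases i with ⟨a, t⟩ | i <;> rfl

/-- Permutations of the planes. -/
def permHom : Equiv.Perm (Fin k) →* GL (Idx k r) F where
  toFun σ :=
    { val := permMat σ
      inv := permMat σ⁻¹
      val_inv := by rw [← permMat_mul, mul_inv_cancel, permMat_one]
      inv_val := by rw [← permMat_mul, inv_mul_cancel, permMat_one] }
  map_one' := Units.ext permMat_one
  map_mul' σ τ := Units.ext (permMat_mul σ τ)

theorem baseMat_inl (f : Fin k → Matrix (Fin 2) (Fin 2) F) (d : Fin r → F) (v : Idx k r → F)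
    (a : Fin 2) (t : Fin k) :
    (baseMat f d *ᵥ v) (.inl (a, t)) = ∑ b, f t a b * v (.inl (b, t)) := by
  simp [baseMat, Matrix.fromBlocks_mulVec, Matrix.mulVec, dotProduct, Matrix.blockDiagonal_apply,
    Fintype.sum_prod_type, ite_mul]

theorem baseMat_inr (f : Fin k → Matrix (Fin 2) (Fin 2) F) (d : Fin r → F) (v : Idx k r → F)
    (j : Fin r) : (baseMat f d *ᵥ v) (.inr j) = d j * v (.inr j) := by
  simp [baseMat, Matrix.fromBlocks_mulVec, Matrix.mulVec_diagonal]

theorem conj_base (σ : Equiv.Perm (Fin k)) (f : Fin k → GL (Fin 2) F) (d : Fin r → Fˣ) :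
    permHom σ * baseHom (f, d) * (permHom σ)⁻¹ = baseHom (fun t => f (σ.symm t), d) := by
  rw [mul_inv_eq_iff_eq_mul]
  refine Units.ext (Matrix.ext_of_mulVec_single fun j => funext fun i => ?_)
  show ((permMat σ * baseMat _ _) *ᵥ _) i = ((baseMat _ _ * permMat σ) *ᵥ _) i
  rw [← Matrix.mulVec_mulVec, ← Matrix.mulVec_mulVec, permMat_mulVec]
  rcases i with ⟨a, t⟩ | i
  · simp only [idxMap, Sum.map_inl, Prod.map, id_eq, baseMat_inl, permMat_mulVec]
  · simp only [idxMap, Sum.map_inr, id_eq, baseMat_inr, permMat_mulVec]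

theorem perm_eq_one {σ : Equiv.Perm (Fin k)} {x : (Fin k → GL (Fin 2) F) × (Fin r → Fˣ)}
    (h : permHom σ = baseHom x) : σ = 1 := by
  refine Equiv.ext fun t => ?_
  by_contra hne
  rw [Equiv.Perm.one_apply] at hne
  have h0 : (permHom (F := F) (r := r) σ).val = (baseHom x).val := by rw [h]
  have h1 := congrFun (congrFun h0 (.inl (0, σ t))) (.inl (0, t))
  simp [permHom, permMat, idxMap, baseHom, baseMat, Matrix.blockDiagonal_apply, Matrix.one_apply, hne] at h1

theorem permHom_injective : Function.Injective (permHom (F := F) (k := k) (r := r)) := by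
  refine (MonoidHom.ker_eq_bot_iff _).1 (eq_bot_iff.2 fun σ hσ => Subgroup.mem_bot.2 ?_)
  exact perm_eq_one (x := 1) (by rw [map_one]; exact hσ)

theorem det_permHom (σ : Equiv.Perm (Fin k)) :
    Matrix.GeneralLinearGroup.det (permHom (F := F) (r := r) σ) = 1 := by
  refine Units.ext ?_
  rw [Matrix.GeneralLinearGroup.val_det_apply, Units.val_one]
  show (permMat σ).det = 1
  have h : (permMat σ : Matrix (Idx k r) (Idx k r) F) = Matrix.fromBlocks
      ((1 : Matrix (Fin 2) (Fin 2) F) ⊗ₖ (1 : Matrix (Fin k) (Fin k) F).submatrix σ.symm id) 0 0 1 := by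
    ext (⟨a, t⟩ | i) (⟨b, s⟩ | j) <;>
      simp [permMat, idxMap, Matrix.one_apply, Matrix.kroneckerMap_apply, Prod.ext_iff,
        ← ite_and, and_comm]
  rw [h, Matrix.det_fromBlocks_zero₂₁, Matrix.det_one, mul_one, Matrix.det_kronecker,
    Matrix.det_one, one_pow, one_mul, Matrix.det_permute, Matrix.det_one, mul_one, Fintype.card_fin,
    pow_two, ← Int.cast_mul, ← Units.val_mul, Int.units_mul_self, Units.val_one, Int.cast_one]

variable [Fintype F]

/-- The coordinates of the base group. -/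
def baseDom (W : Subgroup (GL (Fin 2) F)) (Z : Subgroup Fˣ) (k r : ℕ) :
    Subgroup ((Fin k → GL (Fin 2) F) × (Fin r → Fˣ)) :=
  (Subgroup.pi Set.univ fun _ : Fin k => W).prod (Subgroup.pi Set.univ fun _ : Fin r => Z)

/-- The base group of the model. -/
def base (W : Subgroup (GL (Fin 2) F)) (Z : Subgroup Fˣ) (k r : ℕ) : Subgroup (GL (Idx k r) F) :=
  (baseDom W Z k r).map baseHom

/-- The top group of the model. -/
def top (F : Type*) [Field F] (k r : ℕ) : Subgroup (GL (Idx k r) F) :=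
  (CfsgLib.SylowAlt.tree k).map permHom

/-- The model `(W ≀ tree k) × Z^r`. -/
def model (W : Subgroup (GL (Fin 2) F)) (Z : Subgroup Fˣ) (k r : ℕ) : Subgroup (GL (Idx k r) F) :=
  top F k r ⊔ base W Z k r

variable {W : Subgroup (GL (Fin 2) F)} {Z : Subgroup Fˣ}

theorem mem_baseDom {x : (Fin k → GL (Fin 2) F) × (Fin r → Fˣ)} :
    x ∈ baseDom W Z k r ↔ (∀ t, x.1 t ∈ W) ∧ ∀ j, x.2 j ∈ Z := by
  simp [baseDom, Subgroup.mem_prod, Subgroup.mem_pi]

theorem top_le_normalizer (W : Subgroup (GL (Fin 2) F)) (Z : Subgroup Fˣ) :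
    top F k r ≤ Subgroup.normalizer (base W Z k r : Set _) := by
  rintro _ ⟨σ, -, rfl⟩
  have key : ∀ (τ : Equiv.Perm (Fin k)), ∀ x ∈ base W Z k r,
      permHom τ * x * (permHom τ)⁻¹ ∈ base W Z k r := by
    rintro τ _ ⟨⟨f, d⟩, hf, rfl⟩
    rw [SetLike.mem_coe, mem_baseDom] at hf
    exact ⟨(fun t => f (τ.symm t), d), mem_baseDom.2 ⟨fun t => hf.1 _, hf.2⟩, (conj_base τ f d).symm⟩
  refine Subgroup.mem_normalizer_iff.2 fun x => ⟨key σ x, fun hx => ?_⟩
  have h := key σ⁻¹ _ hx
  rw [map_inv] at h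
  simpa [mul_assoc] using h

theorem mem_model {x : GL (Idx k r) F} :
    x ∈ model W Z k r ↔ ∃ f : Fin k → GL (Fin 2) F, (∀ t, f t ∈ W) ∧ ∃ d : Fin r → Fˣ, (∀ j, d j ∈ Z) ∧
      ∃ σ ∈ CfsgLib.SylowAlt.tree k, baseHom (f, d) * permHom σ = x := by
  rw [model, CfsgLib.Solvable.mem_sup_of_le_normalizer (top_le_normalizer W Z)]
  constructor
  · rintro ⟨_, ⟨σ, hσ, rfl⟩, _, ⟨⟨f, d⟩, hf, rfl⟩, rfl⟩
    rw [SetLike.mem_coe, mem_baseDom] at hf
    exact ⟨fun t => f (σ.symm t), fun t => hf.1 _, d, hf.2, σ, hσ, by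
      rw [← conj_base, inv_mul_cancel_right]⟩
  · rintro ⟨f, hf, d, hd, σ, hσ, rfl⟩
    refine ⟨_, ⟨σ, hσ, rfl⟩, baseHom (fun t => f (σ t), d),
      ⟨_, mem_baseDom.2 ⟨fun t => hf _, hd⟩, rfl⟩, ?_⟩
    have h := conj_base σ (fun t => f (σ t)) d
    simp only [Equiv.apply_symm_apply] at h
    rw [← h, inv_mul_cancel_right]

theorem base_mem_model {f : Fin k → GL (Fin 2) F} {d : Fin r → Fˣ} (hf : ∀ t, f t ∈ W)
    (hd : ∀ j, d j ∈ Z) : baseHom (f, d) ∈ model W Z k r :=
  mem_model.2 ⟨f, hf, d, hd, 1, one_mem _, by rw [map_one, mul_one]⟩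

theorem perm_mem_model {σ : Equiv.Perm (Fin k)} (hσ : σ ∈ CfsgLib.SylowAlt.tree k) :
    permHom σ ∈ model W Z k r :=
  mem_model.2 ⟨1, fun _ => one_mem _, 1, fun _ => one_mem _, σ, hσ, by
    rw [show ((1 : Fin k → GL (Fin 2) F), (1 : Fin r → Fˣ)) = 1 from rfl, map_one, one_mul]⟩

theorem card_model (W : Subgroup (GL (Fin 2) F)) (Z : Subgroup Fˣ) :
    Nat.card (model W Z k r) = 2 ^ padicValNat 2 k.factorial * ((Nat.card W) ^ k * (Nat.card Z) ^ r) := by
  have hdis : top F k r ⊓ base W Z k r = ⊥ := by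
    rw [eq_bot_iff]
    rintro _ ⟨⟨σ, _, rfl⟩, x, _, hx⟩
    rw [Subgroup.mem_bot, perm_eq_one hx.symm, map_one]
  have hpi : ∀ {G : Type _} [Group G] [Finite G] (H : Subgroup G) (m : ℕ),
      Nat.card (Subgroup.pi Set.univ fun _ : Fin m => H) = Nat.card H ^ m := by
    intro G _ _ H m
    rw [Nat.card_congr (Equiv.subtypeEquivRight (q := fun f : Fin m → G => ∀ i, f i ∈ H)
      (fun f => by simp [Subgroup.mem_pi])), Nat.card_congr (Equiv.subtypePiEquivPi), Nat.card_pi,
      Finset.prod_const, Finset.card_univ, Fintype.card_fin]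
  rw [model, CfsgLib.Solvable.card_sup_of_disjoint (top_le_normalizer W Z) hdis, top, base,
    Subgroup.card_map_of_injective permHom_injective, Subgroup.card_map_of_injective baseHom_injective,
    CfsgLib.OrthSylow.card_tree, baseDom, Nat.card_congr (Subgroup.prodEquiv _ _).toEquiv,
    Nat.card_prod, hpi, hpi]

theorem val_prod_pow {q : ℕ} (hq : Odd q) (hq3 : 3 ≤ q) (k : ℕ) :
    padicValNat 2 (∏ j ∈ Finset.range (2 * k), (q ^ (j + 1) - 1)) =
        k * (padicValNat 2 (q - 1) + (CfsgLib.OrthSylow.torusExp q + 1)) + padicValNat 2 k.factorial ∧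
    padicValNat 2 (∏ j ∈ Finset.range (2 * k + 1), (q ^ (j + 1) - 1)) =
        padicValNat 2 (q - 1) + k * (padicValNat 2 (q - 1) + (CfsgLib.OrthSylow.torusExp q + 1)) +
          padicValNat 2 k.factorial := by
  haveI : Fact (Nat.Prime 2) := ⟨Nat.prime_two⟩
  have hne : ∀ j, q ^ (j + 1) - 1 ≠ 0 := fun j => by
    have : 1 < q ^ (j + 1) := Nat.one_lt_pow (by omega) (by omega)
    omega
  have hoddv : ∀ j, padicValNat 2 (q ^ (2 * j + 1) - 1) = padicValNat 2 (q - 1) := by
    intro j
    have h := padicValNat.pow_two_sub_pow (x := q) (y := 1) (n := 2 * (2 * j + 1)) (by omega)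
      (by obtain ⟨s, rfl⟩ := hq; omega) (by obtain ⟨s, rfl⟩ := hq; omega) (by omega) ⟨2 * j + 1, by omega⟩
    have hv := (CfsgLib.OrthSylow.val_pow hq hq3 (2 * j + 1) (by omega))
    have hv1 := (CfsgLib.OrthSylow.val_pow hq hq3 1 one_ne_zero)
    have h0 : padicValNat 2 (2 * j + 1) = 0 := padicValNat.eq_zero_of_not_dvd (by omega)
    simp only [pow_one, padicValNat.one] at hv1
    have hmod : q ^ (2 * j + 1) % 4 = q % 4 := by
      obtain ⟨s, rfl⟩ := hq
      have h2 : (2 * s + 1) ^ 2 % 4 = 1 := by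
        rw [show (2 * s + 1) ^ 2 = 4 * (s * s + s) + 1 by ring]; omega
      rw [pow_succ, pow_mul, Nat.mul_mod, Nat.pow_mod, h2, one_pow]
      omega
    by_cases h4 : q % 4 = 1
    · rw [(hv.1 (hmod.trans h4)).1, (hv1.1 h4).1, h0]
    · rw [(hv.2 (by rw [hmod]; exact h4)).2, (hv1.2 h4).2]
  induction k with
  | zero => simp
  | succ k ih =>
    have heven : padicValNat 2 (∏ j ∈ Finset.range (2 * (k + 1)), (q ^ (j + 1) - 1)) =
        (k + 1) * (padicValNat 2 (q - 1) + (CfsgLib.OrthSylow.torusExp q + 1)) +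
          padicValNat 2 (k + 1).factorial := by
      rw [show 2 * (k + 1) = 2 * k + 1 + 1 by ring, Finset.prod_range_succ,
        padicValNat.mul (Finset.prod_ne_zero_iff.2 fun i _ => hne i) (hne _), ih.2,
        show 2 * k + 1 + 1 = 2 * (k + 1) by ring,
        CfsgLib.OrthSylow.val_even_pow hq hq3 (Nat.succ_ne_zero k), Nat.factorial_succ,
        padicValNat.mul (Nat.succ_ne_zero k) (Nat.factorial_ne_zero k)]
      ring
    refine ⟨heven, ?_⟩
    rw [Finset.prod_range_succ, padicValNat.mul (Finset.prod_ne_zero_iff.2 fun i _ => hne i) (hne _),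
      heven, hoddv (k + 1)]
    ring

theorem factorization_GL (hodd : Odd (Fintype.card F)) (n : ℕ) :
    (Nat.card (GL (Fin n) F)).factorization 2 =
      padicValNat 2 (∏ j ∈ Finset.range n, (Fintype.card F ^ (j + 1) - 1)) := by
  haveI : Fact (Nat.Prime 2) := ⟨Nat.prime_two⟩
  set q := Fintype.card F with hq
  have hq1 : 1 < q := Fintype.one_lt_card
  have hne : ∀ j, q ^ (j + 1) - 1 ≠ 0 := fun j => by
    have : 1 < q ^ (j + 1) := Nat.one_lt_pow (by omega) hq1
    omega
  rw [Nat.factorization_def _ Nat.prime_two, Matrix.card_GL_field, ← hq,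
    Fin.prod_univ_eq_prod_range (fun i => q ^ n - q ^ i) n]
  have hterm : ∀ i ∈ Finset.range n, q ^ n - q ^ i = q ^ i * (q ^ (n - 1 - i + 1) - 1) := by
    intro i hi
    rw [Finset.mem_range] at hi
    rw [Nat.mul_sub, mul_one, ← pow_add, show i + (n - 1 - i + 1) = n by omega]
  rw [Finset.prod_congr rfl hterm, Finset.prod_mul_distrib, Finset.prod_range_reflect (fun j => q ^ (j + 1) - 1),
    padicValNat.mul (Finset.prod_ne_zero_iff.2 fun i _ => pow_ne_zero _ (by omega))
      (Finset.prod_ne_zero_iff.2 fun i _ => hne i), Finset.prod_pow_eq_pow_sum,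
    CfsgLib.OrthSylow.val_q_pow hodd, zero_add]

theorem exists_iso {n : ℕ} (hodd : Odd (Fintype.card F)) (W : Sylow 2 (GL (Fin 2) F)) (Z : Sylow 2 Fˣ)
    (hn : n = 2 * k + r) (hr : r ≤ 1) (S : Sylow 2 (GL (Fin n) F)) :
    Nonempty ((S : Subgroup (GL (Fin n) F)) ≃*
      model (W : Subgroup (GL (Fin 2) F)) (Z : Subgroup Fˣ) k r) := by
  classical
  haveI : Fact (Nat.Prime 2) := ⟨Nat.prime_two⟩
  set q := Fintype.card F with hq
  have hq3 : 3 ≤ q := by
    obtain ⟨s, hs⟩ := hodd
    have : 1 < Fintype.card F := Fintype.one_lt_card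
    omega
  let e : Idx k r ≃ Fin n := Fintype.equivFinOfCardEq (by simp [hn])
  let E : GL (Idx k r) F ≃* GL (Fin n) F := Units.mapEquiv (Matrix.reindexAlgEquiv F F e).toMulEquiv
  set M := model (W : Subgroup (GL (Fin 2) F)) (Z : Subgroup Fˣ) k r with hM
  have hW : Nat.card (W : Subgroup (GL (Fin 2) F)) =
      2 ^ (padicValNat 2 (q - 1) + (CfsgLib.OrthSylow.torusExp q + 1)) := by
    rw [W.card_eq_multiplicity, factorization_GL hodd 2, ← hq]
    have h := (val_prod_pow hodd hq3 1).1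
    rw [Nat.factorial_one, padicValNat.one, add_zero, one_mul, show 2 * 1 = 2 from rfl] at h
    rw [h]
  have hZ : Nat.card (Z : Subgroup Fˣ) = 2 ^ padicValNat 2 (q - 1) := by
    rw [Z.card_eq_multiplicity, Nat.factorization_def _ Nat.prime_two, Nat.card_units,
      Nat.card_eq_fintype_card, ← hq]
  have hc : Nat.card (M.map E.toMonoidHom) = 2 ^ (Nat.card (GL (Fin n) F)).factorization 2 := by
    rw [Subgroup.card_map_of_injective (f := E.toMonoidHom) E.injective, hM, card_model, hW, hZ, ← pow_mul, ← pow_mul,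
      ← pow_add, ← pow_add, factorization_GL hodd n, ← hq, hn]
    congr 1
    obtain rfl | rfl : r = 0 ∨ r = 1 := by omega
    · rw [add_zero, (val_prod_pow hodd hq3 k).1]; ring
    · rw [(val_prod_pow hodd hq3 k).2]; ring
  exact ⟨(S.equiv (Sylow.ofCard _ hc)).trans (M.equivMapOfInjective E.toMonoidHom E.injective).symm⟩

end CfsgLib.SylowTwoGL
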